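import Cfsg.Agent.Lib.KnownSimple.G24Lab.Data

set_option autoImplicit false
set_option maxRecDepth 100000

namespace Cfsg.Agent.Lib.KnownSimple.G24Lab

open Cfsg.Agent.Lib.KnownSimple.Lab Cfsg.Agent.Lib.KnownSimple.G24Lab Dat

theorem hL0c0_c0 : allI (fun i => lowOK D.T lN0 2 0 wr0 i) 0 4032 = true := by decide +kernel
theorem hL0c0_u0 : ∀ i, i < 4032 → (fun i => lowOK D.T lN0 2 0 wr0 i) i = true :=
  allI_join allI_start hL0c0_c0 rfl
theorem hL0c0 : ∀ i, i < 4032 → (fun i => lowOK D.T lN0 2 0 wr0 i) i = true := hL0c0_u0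
theorem hL1c0_c0 : allI (fun i => lowOK D.T lN0 2 0 wr1 i) 0 4032 = true := by decide +kernel
theorem hL1c0_u0 : ∀ i, i < 4032 → (fun i => lowOK D.T lN0 2 0 wr1 i) i = true :=
  allI_join allI_start hL1c0_c0 rfl
theorem hL1c0 : ∀ i, i < 4032 → (fun i => lowOK D.T lN0 2 0 wr1 i) i = true := hL1c0_u0
theorem hL2c0_c0 : allI (fun i => lowOK D.T lN0 2 0 wr2 i) 0 4032 = true := by decide +kernel
theorem hL2c0_u0 : ∀ i, i < 4032 → (fun i => lowOK D.T lN0 2 0 wr2 i) i = true :=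
  allI_join allI_start hL2c0_c0 rfl
theorem hL2c0 : ∀ i, i < 4032 → (fun i => lowOK D.T lN0 2 0 wr2 i) i = true := hL2c0_u0
theorem hL3c0_c0 : allI (fun i => lowOK D.T lN0 2 0 wr3 i) 0 4032 = true := by decide +kernel
theorem hL3c0_u0 : ∀ i, i < 4032 → (fun i => lowOK D.T lN0 2 0 wr3 i) i = true :=
  allI_join allI_start hL3c0_c0 rfl
theorem hL3c0 : ∀ i, i < 4032 → (fun i => lowOK D.T lN0 2 0 wr3 i) i = true := hL3c0_u0
theorem hL4c0_c0 : allI (fun i => lowOK D.T lN0 2 0 wr4 i) 0 4032 = true := by decide +kernel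
theorem hL4c0_u0 : ∀ i, i < 4032 → (fun i => lowOK D.T lN0 2 0 wr4 i) i = true :=
  allI_join allI_start hL4c0_c0 rfl
theorem hL4c0 : ∀ i, i < 4032 → (fun i => lowOK D.T lN0 2 0 wr4 i) i = true := hL4c0_u0
theorem hL5c0_c0 : allI (fun i => lowOK D.T lN0 2 0 wr5 i) 0 4032 = true := by decide +kernel
theorem hL5c0_u0 : ∀ i, i < 4032 → (fun i => lowOK D.T lN0 2 0 wr5 i) i = true :=
  allI_join allI_start hL5c0_c0 rfl
theorem hL5c0 : ∀ i, i < 4032 → (fun i => lowOK D.T lN0 2 0 wr5 i) i = true := hL5c0_u0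
theorem hL6c0_c0 : allI (fun i => lowOK D.T lN0 2 0 wr6 i) 0 4032 = true := by decide +kernel
theorem hL6c0_u0 : ∀ i, i < 4032 → (fun i => lowOK D.T lN0 2 0 wr6 i) i = true :=
  allI_join allI_start hL6c0_c0 rfl
theorem hL6c0 : ∀ i, i < 4032 → (fun i => lowOK D.T lN0 2 0 wr6 i) i = true := hL6c0_u0
theorem hL7c0_c0 : allI (fun i => lowOK D.T lN0 2 0 wr7 i) 0 4032 = true := by decide +kernel
theorem hL7c0_u0 : ∀ i, i < 4032 → (fun i => lowOK D.T lN0 2 0 wr7 i) i = true :=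
  allI_join allI_start hL7c0_c0 rfl
theorem hL7c0 : ∀ i, i < 4032 → (fun i => lowOK D.T lN0 2 0 wr7 i) i = true := hL7c0_u0
theorem hL8c0_c0 : allI (fun i => lowOK D.T lN0 2 0 wr8 i) 0 4032 = true := by decide +kernel
theorem hL8c0_u0 : ∀ i, i < 4032 → (fun i => lowOK D.T lN0 2 0 wr8 i) i = true :=
  allI_join allI_start hL8c0_c0 rfl
theorem hL8c0 : ∀ i, i < 4032 → (fun i => lowOK D.T lN0 2 0 wr8 i) i = true := hL8c0_u0
theorem hL9c0_c0 : allI (fun i => lowOK D.T lN0 2 0 wr9 i) 0 4032 = true := by decide +kernel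
theorem hL9c0_u0 : ∀ i, i < 4032 → (fun i => lowOK D.T lN0 2 0 wr9 i) i = true :=
  allI_join allI_start hL9c0_c0 rfl
theorem hL9c0 : ∀ i, i < 4032 → (fun i => lowOK D.T lN0 2 0 wr9 i) i = true := hL9c0_u0
theorem hL10c0_c0 : allI (fun i => lowOK D.T lN0 2 0 wr10 i) 0 4032 = true := by decide +kernel
theorem hL10c0_u0 : ∀ i, i < 4032 → (fun i => lowOK D.T lN0 2 0 wr10 i) i = true :=
  allI_join allI_start hL10c0_c0 rfl
theorem hL10c0 : ∀ i, i < 4032 → (fun i => lowOK D.T lN0 2 0 wr10 i) i = true := hL10c0_u0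
theorem hL11c0_c0 : allI (fun i => lowOK D.T lN0 2 0 wr11 i) 0 4032 = true := by decide +kernel
theorem hL11c0_u0 : ∀ i, i < 4032 → (fun i => lowOK D.T lN0 2 0 wr11 i) i = true :=
  allI_join allI_start hL11c0_c0 rfl
theorem hL11c0 : ∀ i, i < 4032 → (fun i => lowOK D.T lN0 2 0 wr11 i) i = true := hL11c0_u0
theorem hL12c0_c0 : allI (fun i => lowOK D.T lN0 2 0 wr12 i) 0 4032 = true := by decide +kernel
theorem hL12c0_u0 : ∀ i, i < 4032 → (fun i => lowOK D.T lN0 2 0 wr12 i) i = true :=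
  allI_join allI_start hL12c0_c0 rfl
theorem hL12c0 : ∀ i, i < 4032 → (fun i => lowOK D.T lN0 2 0 wr12 i) i = true := hL12c0_u0
theorem hL13c0_c0 : allI (fun i => lowOK D.T lN0 2 0 wr13 i) 0 4032 = true := by decide +kernel
theorem hL13c0_u0 : ∀ i, i < 4032 → (fun i => lowOK D.T lN0 2 0 wr13 i) i = true :=
  allI_join allI_start hL13c0_c0 rfl
theorem hL13c0 : ∀ i, i < 4032 → (fun i => lowOK D.T lN0 2 0 wr13 i) i = true := hL13c0_u0
theorem hL14c0_c0 : allI (fun i => lowOK D.T lN0 2 0 wr14 i) 0 4032 = true := by decide +kernel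
theorem hL14c0_u0 : ∀ i, i < 4032 → (fun i => lowOK D.T lN0 2 0 wr14 i) i = true :=
  allI_join allI_start hL14c0_c0 rfl
theorem hL14c0 : ∀ i, i < 4032 → (fun i => lowOK D.T lN0 2 0 wr14 i) i = true := hL14c0_u0
theorem hL15c0_c0 : allI (fun i => lowOK D.T lN0 2 0 wr15 i) 0 4032 = true := by decide +kernel
theorem hL15c0_u0 : ∀ i, i < 4032 → (fun i => lowOK D.T lN0 2 0 wr15 i) i = true :=
  allI_join allI_start hL15c0_c0 rfl
theorem hL15c0 : ∀ i, i < 4032 → (fun i => lowOK D.T lN0 2 0 wr15 i) i = true := hL15c0_u0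
theorem hL16c0_c0 : allI (fun i => lowOK D.T lN0 2 0 wr16 i) 0 4032 = true := by decide +kernel
theorem hL16c0_u0 : ∀ i, i < 4032 → (fun i => lowOK D.T lN0 2 0 wr16 i) i = true :=
  allI_join allI_start hL16c0_c0 rfl
theorem hL16c0 : ∀ i, i < 4032 → (fun i => lowOK D.T lN0 2 0 wr16 i) i = true := hL16c0_u0
theorem hL17c0_c0 : allI (fun i => lowOK D.T lN0 2 0 wr17 i) 0 4032 = true := by decide +kernel
theorem hL17c0_u0 : ∀ i, i < 4032 → (fun i => lowOK D.T lN0 2 0 wr17 i) i = true :=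
  allI_join allI_start hL17c0_c0 rfl
theorem hL17c0 : ∀ i, i < 4032 → (fun i => lowOK D.T lN0 2 0 wr17 i) i = true := hL17c0_u0
theorem hL18c0_c0 : allI (fun i => lowOK D.T lN0 2 0 wr18 i) 0 4032 = true := by decide +kernel
theorem hL18c0_u0 : ∀ i, i < 4032 → (fun i => lowOK D.T lN0 2 0 wr18 i) i = true :=
  allI_join allI_start hL18c0_c0 rfl
theorem hL18c0 : ∀ i, i < 4032 → (fun i => lowOK D.T lN0 2 0 wr18 i) i = true := hL18c0_u0
theorem hL19c0_c0 : allI (fun i => lowOK D.T lN0 2 1 wr19 i) 0 4032 = true := by decide +kernel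
theorem hL19c0_u0 : ∀ i, i < 4032 → (fun i => lowOK D.T lN0 2 1 wr19 i) i = true :=
  allI_join allI_start hL19c0_c0 rfl
theorem hL19c0 : ∀ i, i < 4032 → (fun i => lowOK D.T lN0 2 1 wr19 i) i = true := hL19c0_u0
theorem hL20c0_c0 : allI (fun i => lowOK D.T lN0 2 1 wr20 i) 0 4032 = true := by decide +kernel
theorem hL20c0_u0 : ∀ i, i < 4032 → (fun i => lowOK D.T lN0 2 1 wr20 i) i = true :=
  allI_join allI_start hL20c0_c0 rfl
theorem hL20c0 : ∀ i, i < 4032 → (fun i => lowOK D.T lN0 2 1 wr20 i) i = true := hL20c0_u0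
theorem hL21c0_c0 : allI (fun i => lowOK D.T lN0 2 0 wr21 i) 0 4032 = true := by decide +kernel
theorem hL21c0_u0 : ∀ i, i < 4032 → (fun i => lowOK D.T lN0 2 0 wr21 i) i = true :=
  allI_join allI_start hL21c0_c0 rfl
theorem hL21c0 : ∀ i, i < 4032 → (fun i => lowOK D.T lN0 2 0 wr21 i) i = true := hL21c0_u0
theorem hL22c0_c0 : allI (fun i => lowOK D.T lN0 2 0 wr22 i) 0 4032 = true := by decide +kernel
theorem hL22c0_u0 : ∀ i, i < 4032 → (fun i => lowOK D.T lN0 2 0 wr22 i) i = true :=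
  allI_join allI_start hL22c0_c0 rfl
theorem hL22c0 : ∀ i, i < 4032 → (fun i => lowOK D.T lN0 2 0 wr22 i) i = true := hL22c0_u0
theorem hL23c0_c0 : allI (fun i => lowOK D.T lN0 2 1 wr23 i) 0 4032 = true := by decide +kernel
theorem hL23c0_u0 : ∀ i, i < 4032 → (fun i => lowOK D.T lN0 2 1 wr23 i) i = true :=
  allI_join allI_start hL23c0_c0 rfl
theorem hL23c0 : ∀ i, i < 4032 → (fun i => lowOK D.T lN0 2 1 wr23 i) i = true := hL23c0_u0
theorem hL24c0_c0 : allI (fun i => lowOK D.T lN0 2 0 wr24 i) 0 4032 = true := by decide +kernel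
theorem hL24c0_u0 : ∀ i, i < 4032 → (fun i => lowOK D.T lN0 2 0 wr24 i) i = true :=
  allI_join allI_start hL24c0_c0 rfl
theorem hL24c0 : ∀ i, i < 4032 → (fun i => lowOK D.T lN0 2 0 wr24 i) i = true := hL24c0_u0
theorem hL25c0_c0 : allI (fun i => lowOK D.T lN0 2 0 wr25 i) 0 4032 = true := by decide +kernel
theorem hL25c0_u0 : ∀ i, i < 4032 → (fun i => lowOK D.T lN0 2 0 wr25 i) i = true :=
  allI_join allI_start hL25c0_c0 rfl
theorem hL25c0 : ∀ i, i < 4032 → (fun i => lowOK D.T lN0 2 0 wr25 i) i = true := hL25c0_u0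

end Cfsg.Agent.Lib.KnownSimple.G24Lab
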