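import Cfsg.Agent.Lib.KnownSimple.G24Lab.Data

set_option autoImplicit false
set_option maxRecDepth 100000

namespace Cfsg.Agent.Lib.KnownSimple.G24Lab

open Cfsg.Agent.Lib.KnownSimple.Lab Cfsg.Agent.Lib.KnownSimple.G24Lab Dat

theorem hL26c0_c0 : allI (fun i => lowOK D.T lN0 2 0 wr26 i) 0 4032 = true := by decide +kernel
theorem hL26c0_u0 : ∀ i, i < 4032 → (fun i => lowOK D.T lN0 2 0 wr26 i) i = true :=
  allI_join allI_start hL26c0_c0 rfl
theorem hL26c0 : ∀ i, i < 4032 → (fun i => lowOK D.T lN0 2 0 wr26 i) i = true := hL26c0_u0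
theorem hL27c0_c0 : allI (fun i => lowOK D.T lN0 2 1 wr27 i) 0 4032 = true := by decide +kernel
theorem hL27c0_u0 : ∀ i, i < 4032 → (fun i => lowOK D.T lN0 2 1 wr27 i) i = true :=
  allI_join allI_start hL27c0_c0 rfl
theorem hL27c0 : ∀ i, i < 4032 → (fun i => lowOK D.T lN0 2 1 wr27 i) i = true := hL27c0_u0
theorem hL28c0_c0 : allI (fun i => lowOK D.T lN0 2 1 wr28 i) 0 4032 = true := by decide +kernel
theorem hL28c0_u0 : ∀ i, i < 4032 → (fun i => lowOK D.T lN0 2 1 wr28 i) i = true :=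
  allI_join allI_start hL28c0_c0 rfl
theorem hL28c0 : ∀ i, i < 4032 → (fun i => lowOK D.T lN0 2 1 wr28 i) i = true := hL28c0_u0
theorem hL29c0_c0 : allI (fun i => lowOK D.T lN0 2 1 wr29 i) 0 4032 = true := by decide +kernel
theorem hL29c0_u0 : ∀ i, i < 4032 → (fun i => lowOK D.T lN0 2 1 wr29 i) i = true :=
  allI_join allI_start hL29c0_c0 rfl
theorem hL29c0 : ∀ i, i < 4032 → (fun i => lowOK D.T lN0 2 1 wr29 i) i = true := hL29c0_u0
theorem hL30c0_c0 : allI (fun i => lowOK D.T lN0 2 1 wr30 i) 0 4032 = true := by decide +kernel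
theorem hL30c0_u0 : ∀ i, i < 4032 → (fun i => lowOK D.T lN0 2 1 wr30 i) i = true :=
  allI_join allI_start hL30c0_c0 rfl
theorem hL30c0 : ∀ i, i < 4032 → (fun i => lowOK D.T lN0 2 1 wr30 i) i = true := hL30c0_u0
theorem hL31c0_c0 : allI (fun i => lowOK D.T lN0 2 1 wr31 i) 0 4032 = true := by decide +kernel
theorem hL31c0_u0 : ∀ i, i < 4032 → (fun i => lowOK D.T lN0 2 1 wr31 i) i = true :=
  allI_join allI_start hL31c0_c0 rfl
theorem hL31c0 : ∀ i, i < 4032 → (fun i => lowOK D.T lN0 2 1 wr31 i) i = true := hL31c0_u0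
theorem hL32c0_c0 : allI (fun i => lowOK D.T lN0 2 1 wr32 i) 0 4032 = true := by decide +kernel
theorem hL32c0_u0 : ∀ i, i < 4032 → (fun i => lowOK D.T lN0 2 1 wr32 i) i = true :=
  allI_join allI_start hL32c0_c0 rfl
theorem hL32c0 : ∀ i, i < 4032 → (fun i => lowOK D.T lN0 2 1 wr32 i) i = true := hL32c0_u0
theorem hL33c0_c0 : allI (fun i => lowOK D.T lN0 2 1 wr33 i) 0 4032 = true := by decide +kernel
theorem hL33c0_u0 : ∀ i, i < 4032 → (fun i => lowOK D.T lN0 2 1 wr33 i) i = true :=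
  allI_join allI_start hL33c0_c0 rfl
theorem hL33c0 : ∀ i, i < 4032 → (fun i => lowOK D.T lN0 2 1 wr33 i) i = true := hL33c0_u0
theorem hL34c0_c0 : allI (fun i => lowOK D.T lN0 2 1 wr34 i) 0 4032 = true := by decide +kernel
theorem hL34c0_u0 : ∀ i, i < 4032 → (fun i => lowOK D.T lN0 2 1 wr34 i) i = true :=
  allI_join allI_start hL34c0_c0 rfl
theorem hL34c0 : ∀ i, i < 4032 → (fun i => lowOK D.T lN0 2 1 wr34 i) i = true := hL34c0_u0
theorem hL35c0_c0 : allI (fun i => lowOK D.T lN0 2 1 wr35 i) 0 4032 = true := by decide +kernel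
theorem hL35c0_u0 : ∀ i, i < 4032 → (fun i => lowOK D.T lN0 2 1 wr35 i) i = true :=
  allI_join allI_start hL35c0_c0 rfl
theorem hL35c0 : ∀ i, i < 4032 → (fun i => lowOK D.T lN0 2 1 wr35 i) i = true := hL35c0_u0
theorem hL36c0_c0 : allI (fun i => lowOK D.T lN0 2 0 wr36 i) 0 4032 = true := by decide +kernel
theorem hL36c0_u0 : ∀ i, i < 4032 → (fun i => lowOK D.T lN0 2 0 wr36 i) i = true :=
  allI_join allI_start hL36c0_c0 rfl
theorem hL36c0 : ∀ i, i < 4032 → (fun i => lowOK D.T lN0 2 0 wr36 i) i = true := hL36c0_u0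
theorem hL37c0_c0 : allI (fun i => lowOK D.T lN0 2 0 wr37 i) 0 4032 = true := by decide +kernel
theorem hL37c0_u0 : ∀ i, i < 4032 → (fun i => lowOK D.T lN0 2 0 wr37 i) i = true :=
  allI_join allI_start hL37c0_c0 rfl
theorem hL37c0 : ∀ i, i < 4032 → (fun i => lowOK D.T lN0 2 0 wr37 i) i = true := hL37c0_u0
theorem hL38c0_c0 : allI (fun i => lowOK D.T lN0 2 0 wr38 i) 0 4032 = true := by decide +kernel
theorem hL38c0_u0 : ∀ i, i < 4032 → (fun i => lowOK D.T lN0 2 0 wr38 i) i = true :=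
  allI_join allI_start hL38c0_c0 rfl
theorem hL38c0 : ∀ i, i < 4032 → (fun i => lowOK D.T lN0 2 0 wr38 i) i = true := hL38c0_u0
theorem hL39c0_c0 : allI (fun i => lowOK D.T lN0 2 0 wr39 i) 0 4032 = true := by decide +kernel
theorem hL39c0_u0 : ∀ i, i < 4032 → (fun i => lowOK D.T lN0 2 0 wr39 i) i = true :=
  allI_join allI_start hL39c0_c0 rfl
theorem hL39c0 : ∀ i, i < 4032 → (fun i => lowOK D.T lN0 2 0 wr39 i) i = true := hL39c0_u0
theorem hL40c0_c0 : allI (fun i => lowOK D.T lN0 2 0 wr40 i) 0 4032 = true := by decide +kernel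
theorem hL40c0_u0 : ∀ i, i < 4032 → (fun i => lowOK D.T lN0 2 0 wr40 i) i = true :=
  allI_join allI_start hL40c0_c0 rfl
theorem hL40c0 : ∀ i, i < 4032 → (fun i => lowOK D.T lN0 2 0 wr40 i) i = true := hL40c0_u0
theorem hL41c0_c0 : allI (fun i => lowOK D.T lN0 2 0 wr41 i) 0 4032 = true := by decide +kernel
theorem hL41c0_u0 : ∀ i, i < 4032 → (fun i => lowOK D.T lN0 2 0 wr41 i) i = true :=
  allI_join allI_start hL41c0_c0 rfl
theorem hL41c0 : ∀ i, i < 4032 → (fun i => lowOK D.T lN0 2 0 wr41 i) i = true := hL41c0_u0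
theorem hL42c0_c0 : allI (fun i => lowOK D.T lN0 2 0 wr42 i) 0 4032 = true := by decide +kernel
theorem hL42c0_u0 : ∀ i, i < 4032 → (fun i => lowOK D.T lN0 2 0 wr42 i) i = true :=
  allI_join allI_start hL42c0_c0 rfl
theorem hL42c0 : ∀ i, i < 4032 → (fun i => lowOK D.T lN0 2 0 wr42 i) i = true := hL42c0_u0
theorem hLP0c0_c0 : allI (fun i => lowOK D.T lN0 2 0 pw0 i) 0 4032 = true := by decide +kernel
theorem hLP0c0_u0 : ∀ i, i < 4032 → (fun i => lowOK D.T lN0 2 0 pw0 i) i = true :=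
  allI_join allI_start hLP0c0_c0 rfl
theorem hLP0c0 : ∀ i, i < 4032 → (fun i => lowOK D.T lN0 2 0 pw0 i) i = true := hLP0c0_u0
theorem hLP3c0_c0 : allI (fun i => lowOK D.T lN0 2 0 pw3 i) 0 4032 = true := by decide +kernel
theorem hLP3c0_u0 : ∀ i, i < 4032 → (fun i => lowOK D.T lN0 2 0 pw3 i) i = true :=
  allI_join allI_start hLP3c0_c0 rfl
theorem hLP3c0 : ∀ i, i < 4032 → (fun i => lowOK D.T lN0 2 0 pw3 i) i = true := hLP3c0_u0

end Cfsg.Agent.Lib.KnownSimple.G24Lab
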