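import Cfsg.Agent.Lib.KnownSimple.G24Lab.Data

set_option autoImplicit false
set_option maxRecDepth 100000

namespace Cfsg.Agent.Lib.KnownSimple.G24Lab

open Cfsg.Agent.Lib.KnownSimple.Lab Cfsg.Agent.Lib.KnownSimple.G24Lab Dat

theorem hLP4c0_c0 : allI (fun i => lowOK D.T lN0 2 0 pw4 i) 0 2941 = true := by decide +kernel
theorem hLP4c0_u0 : ∀ i, i < 2941 → (fun i => lowOK D.T lN0 2 0 pw4 i) i = true :=
  allI_join allI_start hLP4c0_c0 rfl
theorem hLP4c0_c1 : allI (fun i => lowOK D.T lN0 2 0 pw4 i) 2941 1091 = true := by decide +kernel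
theorem hLP4c0_u1 : ∀ i, i < 4032 → (fun i => lowOK D.T lN0 2 0 pw4 i) i = true :=
  allI_join hLP4c0_u0 hLP4c0_c1 rfl
theorem hLP4c0 : ∀ i, i < 4032 → (fun i => lowOK D.T lN0 2 0 pw4 i) i = true := hLP4c0_u1
theorem hLP5c0_c0 : allI (fun i => lowOK D.T lN0 2 0 pw5 i) 0 3000 = true := by decide +kernel
theorem hLP5c0_u0 : ∀ i, i < 3000 → (fun i => lowOK D.T lN0 2 0 pw5 i) i = true :=
  allI_join allI_start hLP5c0_c0 rfl
theorem hLP5c0_c1 : allI (fun i => lowOK D.T lN0 2 0 pw5 i) 3000 1032 = true := by decide +kernel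
theorem hLP5c0_u1 : ∀ i, i < 4032 → (fun i => lowOK D.T lN0 2 0 pw5 i) i = true :=
  allI_join hLP5c0_u0 hLP5c0_c1 rfl
theorem hLP5c0 : ∀ i, i < 4032 → (fun i => lowOK D.T lN0 2 0 pw5 i) i = true := hLP5c0_u1
theorem hLP6c0_c0 : allI (fun i => lowOK D.T lN0 2 1 pw6 i) 0 2941 = true := by decide +kernel
theorem hLP6c0_u0 : ∀ i, i < 2941 → (fun i => lowOK D.T lN0 2 1 pw6 i) i = true :=
  allI_join allI_start hLP6c0_c0 rfl
theorem hLP6c0_c1 : allI (fun i => lowOK D.T lN0 2 1 pw6 i) 2941 1091 = true := by decide +kernel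
theorem hLP6c0_u1 : ∀ i, i < 4032 → (fun i => lowOK D.T lN0 2 1 pw6 i) i = true :=
  allI_join hLP6c0_u0 hLP6c0_c1 rfl
theorem hLP6c0 : ∀ i, i < 4032 → (fun i => lowOK D.T lN0 2 1 pw6 i) i = true := hLP6c0_u1
theorem hLP7c0_c0 : allI (fun i => lowOK D.T lN0 2 0 pw7 i) 0 2727 = true := by decide +kernel
theorem hLP7c0_u0 : ∀ i, i < 2727 → (fun i => lowOK D.T lN0 2 0 pw7 i) i = true :=
  allI_join allI_start hLP7c0_c0 rfl
theorem hLP7c0_c1 : allI (fun i => lowOK D.T lN0 2 0 pw7 i) 2727 1305 = true := by decide +kernel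
theorem hLP7c0_u1 : ∀ i, i < 4032 → (fun i => lowOK D.T lN0 2 0 pw7 i) i = true :=
  allI_join hLP7c0_u0 hLP7c0_c1 rfl
theorem hLP7c0 : ∀ i, i < 4032 → (fun i => lowOK D.T lN0 2 0 pw7 i) i = true := hLP7c0_u1
theorem hLP8c0_c0 : allI (fun i => lowOK D.T lN0 2 1 pw8 i) 0 4032 = true := by decide +kernel
theorem hLP8c0_u0 : ∀ i, i < 4032 → (fun i => lowOK D.T lN0 2 1 pw8 i) i = true :=
  allI_join allI_start hLP8c0_c0 rfl
theorem hLP8c0 : ∀ i, i < 4032 → (fun i => lowOK D.T lN0 2 1 pw8 i) i = true := hLP8c0_u0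
theorem hLP9c0_c0 : allI (fun i => lowOK D.T lN0 2 0 pw9 i) 0 4032 = true := by decide +kernel
theorem hLP9c0_u0 : ∀ i, i < 4032 → (fun i => lowOK D.T lN0 2 0 pw9 i) i = true :=
  allI_join allI_start hLP9c0_c0 rfl
theorem hLP9c0 : ∀ i, i < 4032 → (fun i => lowOK D.T lN0 2 0 pw9 i) i = true := hLP9c0_u0
theorem hLP10c0_c0 : allI (fun i => lowOK D.T lN0 2 1 pw10 i) 0 4032 = true := by decide +kernel
theorem hLP10c0_u0 : ∀ i, i < 4032 → (fun i => lowOK D.T lN0 2 1 pw10 i) i = true :=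
  allI_join allI_start hLP10c0_c0 rfl
theorem hLP10c0 : ∀ i, i < 4032 → (fun i => lowOK D.T lN0 2 1 pw10 i) i = true := hLP10c0_u0
theorem hLP11c0_c0 : allI (fun i => lowOK D.T lN0 2 0 pw11 i) 0 3409 = true := by decide +kernel
theorem hLP11c0_u0 : ∀ i, i < 3409 → (fun i => lowOK D.T lN0 2 0 pw11 i) i = true :=
  allI_join allI_start hLP11c0_c0 rfl
theorem hLP11c0_c1 : allI (fun i => lowOK D.T lN0 2 0 pw11 i) 3409 623 = true := by decide +kernel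
theorem hLP11c0_u1 : ∀ i, i < 4032 → (fun i => lowOK D.T lN0 2 0 pw11 i) i = true :=
  allI_join hLP11c0_u0 hLP11c0_c1 rfl
theorem hLP11c0 : ∀ i, i < 4032 → (fun i => lowOK D.T lN0 2 0 pw11 i) i = true := hLP11c0_u1
theorem hLP12c0_c0 : allI (fun i => lowOK D.T lN0 2 0 pw12 i) 0 2884 = true := by decide +kernel
theorem hLP12c0_u0 : ∀ i, i < 2884 → (fun i => lowOK D.T lN0 2 0 pw12 i) i = true :=
  allI_join allI_start hLP12c0_c0 rfl
theorem hLP12c0_c1 : allI (fun i => lowOK D.T lN0 2 0 pw12 i) 2884 1148 = true := by decide +kernel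
theorem hLP12c0_u1 : ∀ i, i < 4032 → (fun i => lowOK D.T lN0 2 0 pw12 i) i = true :=
  allI_join hLP12c0_u0 hLP12c0_c1 rfl
theorem hLP12c0 : ∀ i, i < 4032 → (fun i => lowOK D.T lN0 2 0 pw12 i) i = true := hLP12c0_u1

end Cfsg.Agent.Lib.KnownSimple.G24Lab
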