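import Cfsg.Agent.Lib.KnownSimple.G24Lab.Data

set_option autoImplicit false
set_option maxRecDepth 100000

namespace Cfsg.Agent.Lib.KnownSimple.G24Lab

open Cfsg.Agent.Lib.KnownSimple.Lab Cfsg.Agent.Lib.KnownSimple.G24Lab Dat

theorem hLP13c0_c0 : allI (fun i => lowOK D.T lN0 2 0 pw13 i) 0 2941 = true := by decide +kernel
theorem hLP13c0_u0 : ∀ i, i < 2941 → (fun i => lowOK D.T lN0 2 0 pw13 i) i = true :=
  allI_join allI_start hLP13c0_c0 rfl
theorem hLP13c0_c1 : allI (fun i => lowOK D.T lN0 2 0 pw13 i) 2941 1091 = true := by decide +kernel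
theorem hLP13c0_u1 : ∀ i, i < 4032 → (fun i => lowOK D.T lN0 2 0 pw13 i) i = true :=
  allI_join hLP13c0_u0 hLP13c0_c1 rfl
theorem hLP13c0 : ∀ i, i < 4032 → (fun i => lowOK D.T lN0 2 0 pw13 i) i = true := hLP13c0_u1
theorem hES0c0_c0 : allI (fun i => lowOK D.T lN0 2 0 wES0 i) 0 4032 = true := by decide +kernel
theorem hES0c0_u0 : ∀ i, i < 4032 → (fun i => lowOK D.T lN0 2 0 wES0 i) i = true :=
  allI_join allI_start hES0c0_c0 rfl
theorem hES0c0 : ∀ i, i < 4032 → (fun i => lowOK D.T lN0 2 0 wES0 i) i = true := hES0c0_u0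
theorem hES1c0_c0 : allI (fun i => lowOK D.T lN0 2 0 wES1 i) 0 4032 = true := by decide +kernel
theorem hES1c0_u0 : ∀ i, i < 4032 → (fun i => lowOK D.T lN0 2 0 wES1 i) i = true :=
  allI_join allI_start hES1c0_c0 rfl
theorem hES1c0 : ∀ i, i < 4032 → (fun i => lowOK D.T lN0 2 0 wES1 i) i = true := hES1c0_u0
theorem hES2c0_c0 : allI (fun i => lowOK D.T lN0 2 0 wES2 i) 0 4032 = true := by decide +kernel
theorem hES2c0_u0 : ∀ i, i < 4032 → (fun i => lowOK D.T lN0 2 0 wES2 i) i = true :=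
  allI_join allI_start hES2c0_c0 rfl
theorem hES2c0 : ∀ i, i < 4032 → (fun i => lowOK D.T lN0 2 0 wES2 i) i = true := hES2c0_u0
theorem hES3c0_c0 : allI (fun i => lowOK D.T lN0 2 0 wES3 i) 0 4032 = true := by decide +kernel
theorem hES3c0_u0 : ∀ i, i < 4032 → (fun i => lowOK D.T lN0 2 0 wES3 i) i = true :=
  allI_join allI_start hES3c0_c0 rfl
theorem hES3c0 : ∀ i, i < 4032 → (fun i => lowOK D.T lN0 2 0 wES3 i) i = true := hES3c0_u0
theorem hES4c0_c0 : allI (fun i => lowOK D.T lN0 2 0 wES4 i) 0 4032 = true := by decide +kernel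
theorem hES4c0_u0 : ∀ i, i < 4032 → (fun i => lowOK D.T lN0 2 0 wES4 i) i = true :=
  allI_join allI_start hES4c0_c0 rfl
theorem hES4c0 : ∀ i, i < 4032 → (fun i => lowOK D.T lN0 2 0 wES4 i) i = true := hES4c0_u0
theorem hES5c0_c0 : allI (fun i => lowOK D.T lN0 2 0 wES5 i) 0 4032 = true := by decide +kernel
theorem hES5c0_u0 : ∀ i, i < 4032 → (fun i => lowOK D.T lN0 2 0 wES5 i) i = true :=
  allI_join allI_start hES5c0_c0 rfl
theorem hES5c0 : ∀ i, i < 4032 → (fun i => lowOK D.T lN0 2 0 wES5 i) i = true := hES5c0_u0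
theorem hES6c0_c0 : allI (fun i => lowOK D.T lN0 2 0 wES6 i) 0 4032 = true := by decide +kernel
theorem hES6c0_u0 : ∀ i, i < 4032 → (fun i => lowOK D.T lN0 2 0 wES6 i) i = true :=
  allI_join allI_start hES6c0_c0 rfl
theorem hES6c0 : ∀ i, i < 4032 → (fun i => lowOK D.T lN0 2 0 wES6 i) i = true := hES6c0_u0
theorem hES7c0_c0 : allI (fun i => lowOK D.T lN0 2 0 wES7 i) 0 4032 = true := by decide +kernel
theorem hES7c0_u0 : ∀ i, i < 4032 → (fun i => lowOK D.T lN0 2 0 wES7 i) i = true :=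
  allI_join allI_start hES7c0_c0 rfl
theorem hES7c0 : ∀ i, i < 4032 → (fun i => lowOK D.T lN0 2 0 wES7 i) i = true := hES7c0_u0
theorem hES8c0_c0 : allI (fun i => lowOK D.T lN0 2 0 wES8 i) 0 2727 = true := by decide +kernel
theorem hES8c0_u0 : ∀ i, i < 2727 → (fun i => lowOK D.T lN0 2 0 wES8 i) i = true :=
  allI_join allI_start hES8c0_c0 rfl
theorem hES8c0_c1 : allI (fun i => lowOK D.T lN0 2 0 wES8 i) 2727 1305 = true := by decide +kernel
theorem hES8c0_u1 : ∀ i, i < 4032 → (fun i => lowOK D.T lN0 2 0 wES8 i) i = true :=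
  allI_join hES8c0_u0 hES8c0_c1 rfl
theorem hES8c0 : ∀ i, i < 4032 → (fun i => lowOK D.T lN0 2 0 wES8 i) i = true := hES8c0_u1
theorem hES9c0_c0 : allI (fun i => lowOK D.T lN0 2 0 wES9 i) 0 2830 = true := by decide +kernel
theorem hES9c0_u0 : ∀ i, i < 2830 → (fun i => lowOK D.T lN0 2 0 wES9 i) i = true :=
  allI_join allI_start hES9c0_c0 rfl
theorem hES9c0_c1 : allI (fun i => lowOK D.T lN0 2 0 wES9 i) 2830 1202 = true := by decide +kernel
theorem hES9c0_u1 : ∀ i, i < 4032 → (fun i => lowOK D.T lN0 2 0 wES9 i) i = true :=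
  allI_join hES9c0_u0 hES9c0_c1 rfl
theorem hES9c0 : ∀ i, i < 4032 → (fun i => lowOK D.T lN0 2 0 wES9 i) i = true := hES9c0_u1
theorem hES10c0_c0 : allI (fun i => lowOK D.T lN0 2 0 wES10 i) 0 4032 = true := by decide +kernel
theorem hES10c0_u0 : ∀ i, i < 4032 → (fun i => lowOK D.T lN0 2 0 wES10 i) i = true :=
  allI_join allI_start hES10c0_c0 rfl
theorem hES10c0 : ∀ i, i < 4032 → (fun i => lowOK D.T lN0 2 0 wES10 i) i = true := hES10c0_u0
theorem hES11c0_c0 : allI (fun i => lowOK D.T lN0 2 0 wES11 i) 0 1190 = true := by decide +kernel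
theorem hES11c0_u0 : ∀ i, i < 1190 → (fun i => lowOK D.T lN0 2 0 wES11 i) i = true :=
  allI_join allI_start hES11c0_c0 rfl
theorem hES11c0_c1 : allI (fun i => lowOK D.T lN0 2 0 wES11 i) 1190 1190 = true := by decide +kernel
theorem hES11c0_u1 : ∀ i, i < 2380 → (fun i => lowOK D.T lN0 2 0 wES11 i) i = true :=
  allI_join hES11c0_u0 hES11c0_c1 rfl
theorem hES11c0_c2 : allI (fun i => lowOK D.T lN0 2 0 wES11 i) 2380 1190 = true := by decide +kernel
theorem hES11c0_u2 : ∀ i, i < 3570 → (fun i => lowOK D.T lN0 2 0 wES11 i) i = true :=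
  allI_join hES11c0_u1 hES11c0_c2 rfl
theorem hES11c0_c3 : allI (fun i => lowOK D.T lN0 2 0 wES11 i) 3570 462 = true := by decide +kernel
theorem hES11c0_u3 : ∀ i, i < 4032 → (fun i => lowOK D.T lN0 2 0 wES11 i) i = true :=
  allI_join hES11c0_u2 hES11c0_c3 rfl
theorem hES11c0 : ∀ i, i < 4032 → (fun i => lowOK D.T lN0 2 0 wES11 i) i = true := hES11c0_u3

end Cfsg.Agent.Lib.KnownSimple.G24Lab
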