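import Cfsg.Agent.Lib.KnownSimple.G24Lab.Data

set_option autoImplicit false
set_option maxRecDepth 100000

namespace Cfsg.Agent.Lib.KnownSimple.G24Lab

open Cfsg.Agent.Lib.KnownSimple.Lab Cfsg.Agent.Lib.KnownSimple.G24Lab Dat

theorem hES12c0_c0 : allI (fun i => lowOK D.T lN0 2 0 wES12 i) 0 3947 = true := by decide +kernel
theorem hES12c0_u0 : ∀ i, i < 3947 → (fun i => lowOK D.T lN0 2 0 wES12 i) i = true :=
  allI_join allI_start hES12c0_c0 rfl
theorem hES12c0_c1 : allI (fun i => lowOK D.T lN0 2 0 wES12 i) 3947 85 = true := by decide +kernel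
theorem hES12c0_u1 : ∀ i, i < 4032 → (fun i => lowOK D.T lN0 2 0 wES12 i) i = true :=
  allI_join hES12c0_u0 hES12c0_c1 rfl
theorem hES12c0 : ∀ i, i < 4032 → (fun i => lowOK D.T lN0 2 0 wES12 i) i = true := hES12c0_u1
theorem hES13c0_c0 : allI (fun i => lowOK D.T lN0 2 0 wES13 i) 0 1875 = true := by decide +kernel
theorem hES13c0_u0 : ∀ i, i < 1875 → (fun i => lowOK D.T lN0 2 0 wES13 i) i = true :=
  allI_join allI_start hES13c0_c0 rfl
theorem hES13c0_c1 : allI (fun i => lowOK D.T lN0 2 0 wES13 i) 1875 1875 = true := by decide +kernel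
theorem hES13c0_u1 : ∀ i, i < 3750 → (fun i => lowOK D.T lN0 2 0 wES13 i) i = true :=
  allI_join hES13c0_u0 hES13c0_c1 rfl
theorem hES13c0_c2 : allI (fun i => lowOK D.T lN0 2 0 wES13 i) 3750 282 = true := by decide +kernel
theorem hES13c0_u2 : ∀ i, i < 4032 → (fun i => lowOK D.T lN0 2 0 wES13 i) i = true :=
  allI_join hES13c0_u1 hES13c0_c2 rfl
theorem hES13c0 : ∀ i, i < 4032 → (fun i => lowOK D.T lN0 2 0 wES13 i) i = true := hES13c0_u2
theorem hES14c0_c0 : allI (fun i => lowOK D.T lN0 2 0 wES14 i) 0 3125 = true := by decide +kernel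
theorem hES14c0_u0 : ∀ i, i < 3125 → (fun i => lowOK D.T lN0 2 0 wES14 i) i = true :=
  allI_join allI_start hES14c0_c0 rfl
theorem hES14c0_c1 : allI (fun i => lowOK D.T lN0 2 0 wES14 i) 3125 907 = true := by decide +kernel
theorem hES14c0_u1 : ∀ i, i < 4032 → (fun i => lowOK D.T lN0 2 0 wES14 i) i = true :=
  allI_join hES14c0_u0 hES14c0_c1 rfl
theorem hES14c0 : ∀ i, i < 4032 → (fun i => lowOK D.T lN0 2 0 wES14 i) i = true := hES14c0_u1
theorem hES15c0_c0 : allI (fun i => lowOK D.T lN0 2 0 wES15 i) 0 3750 = true := by decide +kernel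
theorem hES15c0_u0 : ∀ i, i < 3750 → (fun i => lowOK D.T lN0 2 0 wES15 i) i = true :=
  allI_join allI_start hES15c0_c0 rfl
theorem hES15c0_c1 : allI (fun i => lowOK D.T lN0 2 0 wES15 i) 3750 282 = true := by decide +kernel
theorem hES15c0_u1 : ∀ i, i < 4032 → (fun i => lowOK D.T lN0 2 0 wES15 i) i = true :=
  allI_join hES15c0_u0 hES15c0_c1 rfl
theorem hES15c0 : ∀ i, i < 4032 → (fun i => lowOK D.T lN0 2 0 wES15 i) i = true := hES15c0_u1
theorem hES16c0_c0 : allI (fun i => lowOK D.T lN0 2 0 wES16 i) 0 4032 = true := by decide +kernel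
theorem hES16c0_u0 : ∀ i, i < 4032 → (fun i => lowOK D.T lN0 2 0 wES16 i) i = true :=
  allI_join allI_start hES16c0_c0 rfl
theorem hES16c0 : ∀ i, i < 4032 → (fun i => lowOK D.T lN0 2 0 wES16 i) i = true := hES16c0_u0
theorem hES17c0_c0 : allI (fun i => lowOK D.T lN0 2 0 wES17 i) 0 4032 = true := by decide +kernel
theorem hES17c0_u0 : ∀ i, i < 4032 → (fun i => lowOK D.T lN0 2 0 wES17 i) i = true :=
  allI_join allI_start hES17c0_c0 rfl
theorem hES17c0 : ∀ i, i < 4032 → (fun i => lowOK D.T lN0 2 0 wES17 i) i = true := hES17c0_u0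
theorem hES18c0_c0 : allI (fun i => lowOK D.T lN0 2 0 wES18 i) 0 1041 = true := by decide +kernel
theorem hES18c0_u0 : ∀ i, i < 1041 → (fun i => lowOK D.T lN0 2 0 wES18 i) i = true :=
  allI_join allI_start hES18c0_c0 rfl
theorem hES18c0_c1 : allI (fun i => lowOK D.T lN0 2 0 wES18 i) 1041 1041 = true := by decide +kernel
theorem hES18c0_u1 : ∀ i, i < 2082 → (fun i => lowOK D.T lN0 2 0 wES18 i) i = true :=
  allI_join hES18c0_u0 hES18c0_c1 rfl
theorem hES18c0_c2 : allI (fun i => lowOK D.T lN0 2 0 wES18 i) 2082 1041 = true := by decide +kernel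
theorem hES18c0_u2 : ∀ i, i < 3123 → (fun i => lowOK D.T lN0 2 0 wES18 i) i = true :=
  allI_join hES18c0_u1 hES18c0_c2 rfl
theorem hES18c0_c3 : allI (fun i => lowOK D.T lN0 2 0 wES18 i) 3123 909 = true := by decide +kernel
theorem hES18c0_u3 : ∀ i, i < 4032 → (fun i => lowOK D.T lN0 2 0 wES18 i) i = true :=
  allI_join hES18c0_u2 hES18c0_c3 rfl
theorem hES18c0 : ∀ i, i < 4032 → (fun i => lowOK D.T lN0 2 0 wES18 i) i = true := hES18c0_u3

end Cfsg.Agent.Lib.KnownSimple.G24Lab
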