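-- Generated: a labelled coset table for `G24`.
import Cfsg.Agent.Lib.KnownSimple.G24Lab.ChecksA
import Cfsg.Agent.Lib.KnownSimple.G24Lab.ChecksB0
import Cfsg.Agent.Lib.KnownSimple.G24Lab.ChecksB1
import Cfsg.Agent.Lib.KnownSimple.G24Lab.ChecksB2
import Cfsg.Agent.Lib.KnownSimple.G24Lab.ChecksB3
import Cfsg.Agent.Lib.KnownSimple.G24Lab.ChecksB4
import Cfsg.Agent.Lib.KnownSimple.G24Lab.ChecksB5
import Cfsg.Agent.Lib.KnownSimple.G24Lab.ChecksV0
import Cfsg.Agent.Lib.KnownSimple.G24Lab.ChecksV1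
import Cfsg.Agent.Lib.KnownSimple.G24Lab.ChecksV2
import Cfsg.Agent.Lib.KnownSimple.G24Lab.ChecksV3
import Cfsg.Agent.Lib.KnownSimple.LabTower
import Cfsg.Agent.Lib.KnownSimple.LabFinalA
import Cfsg.Agent.Lib.KnownSimple.LabPoly
import Cfsg.Agent.Lib.KnownSimple.G24Lab.Letters
import Cfsg.Agent.Lib.KnownSimple.U34Lab.Facts

set_option autoImplicit false
set_option maxRecDepth 100000

universe u

namespace Cfsg.Agent.Lib.KnownSimple.G24Lab

open Cfsg.Agent.Lib.KnownSimple.Lab Subgroup 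

def gwx : List ℕ := [1, 1, 1, 2, 1, 2, 1, 2, 1, 1, 1, 2, 3, 3, 0, 3, 0, 3, 3, 0, 3, 0, 3, 3]
def gwy : List ℕ := [0, 1, 1, 1, 1, 1, 0, 3, 3, 3, 2, 2, 3, 3]
def gw (a : ℕ) : List ℕ := [gwx, gwy].getD a []



theorem hgw1 : ∀ a < 2, ∀ b ∈ gw a, b < 2 * 2 := by
  intro a ha
  interval_cases a
  · exact (by decide +kernel : ∀ b ∈ gwx, b < 2 * 2)
  · exact (by decide +kernel : ∀ b ∈ gwy, b < 2 * 2)

theorem hgw3 : ∀ a < 2, balanced 2 (gw a) = true := by
  intro a ha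
  interval_cases a <;> decide +kernel

theorem hT : ∀ a < D.k, ∀ i < D.n, D.T a i < D.n := by
  intro a ha i hi
  have ha' : a < 4 := ha
  have hi' : i < 4032 := hi
  show D.T a i < 4032
  interval_cases a
  · exact Nat.le_of_ble_eq_true (hT0 i hi')
  · exact Nat.le_of_ble_eq_true (hT1 i hi')
  · exact Nat.le_of_ble_eq_true (hT2 i hi')
  · exact Nat.le_of_ble_eq_true (hT3 i hi')

theorem hRchk : allI (fun ρ => (Rget ρ).all (fun a => Nat.blt a 4)) 0 43 = true := by decide +kernel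

theorem hR : ∀ ρ < D.r, ∀ a ∈ D.R ρ, a < D.k := by
  intro ρ hρ a ha
  have h1 := of_allI hRchk ρ (Nat.zero_le _) hρ
  exact Nat.le_of_ble_eq_true (List.all_eq_true.mp h1 a ha)

theorem hR4 : ∀ ρ < D.r, ∀ a ∈ D.R ρ, a < 4 := hR

theorem hp : ∀ j, 0 < j → j < D.n → D.par j < j ∧ D.gn j < D.k ∧ D.T (D.gn j) (D.par j) = j := by
  intro j h0 hj
  have h := hTree j hj
  simp only [Bool.or_eq_true, Bool.and_eq_true, Nat.beq_eq, Nat.blt_eq] at h
  rcases h with h | ⟨⟨h1, h2⟩, h3⟩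
  · omega
  · exact ⟨h1, h2, h3⟩

theorem hZ : ∀ ρ < D.r, D.Z ρ = true → ∃ a < 2, D.R ρ = [a, a + 2] ∨ D.R ρ = [a + 2, a] ∨
    D.R ρ = (a + 2) :: gw a := by
  intro ρ hρ h
  have hρ' : ρ < 43 := hρ
  interval_cases ρ
  · exact ⟨0, by norm_num, Or.inr (Or.inl rfl)⟩
  · exact ⟨0, by norm_num, Or.inl rfl⟩
  · exact ⟨1, by norm_num, Or.inr (Or.inl rfl)⟩
  · exact ⟨1, by norm_num, Or.inl rfl⟩
  · exact absurd h (by decide +kernel)
  · exact absurd h (by decide +kernel)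
  · exact absurd h (by decide +kernel)
  · exact absurd h (by decide +kernel)
  · exact absurd h (by decide +kernel)
  · exact absurd h (by decide +kernel)
  · exact absurd h (by decide +kernel)
  · exact absurd h (by decide +kernel)
  · exact absurd h (by decide +kernel)
  · exact absurd h (by decide +kernel)
  · exact absurd h (by decide +kernel)
  · exact absurd h (by decide +kernel)
  · exact absurd h (by decide +kernel)
  · exact absurd h (by decide +kernel)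
  · exact absurd h (by decide +kernel)
  · exact absurd h (by decide +kernel)
  · exact absurd h (by decide +kernel)
  · exact absurd h (by decide +kernel)
  · exact absurd h (by decide +kernel)
  · exact absurd h (by decide +kernel)
  · exact absurd h (by decide +kernel)
  · exact absurd h (by decide +kernel)
  · exact absurd h (by decide +kernel)
  · exact absurd h (by decide +kernel)
  · exact absurd h (by decide +kernel)
  · exact absurd h (by decide +kernel)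
  · exact absurd h (by decide +kernel)
  · exact absurd h (by decide +kernel)
  · exact absurd h (by decide +kernel)
  · exact absurd h (by decide +kernel)
  · exact absurd h (by decide +kernel)
  · exact absurd h (by decide +kernel)
  · exact absurd h (by decide +kernel)
  · exact absurd h (by decide +kernel)
  · exact absurd h (by decide +kernel)
  · exact absurd h (by decide +kernel)
  · exact absurd h (by decide +kernel)
  · exact ⟨0, by norm_num, Or.inr (Or.inr rfl)⟩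
  · exact ⟨1, by norm_num, Or.inr (Or.inr rfl)⟩

theorem hPkchk : allI (fun t => (Nat.blt (D.P t).1 4 && Nat.blt (D.P t).2 4032) ||
    (Nat.ble 4 (D.P t).1 && Nat.blt ((D.P t).1 - 4) 43 && Nat.beq (D.P t).2 0)) 0 14 = true := by decide +kernel

theorem hPk : ∀ t < D.m, ((D.P t).1 < D.k ∧ (D.P t).2 < D.n) ∨
    (D.k ≤ (D.P t).1 ∧ (D.P t).1 - D.k < D.r ∧ (D.P t).2 = 0) := by
  intro t ht
  have := of_allI hPkchk t (Nat.zero_le _) ht
  simp only [Bool.or_eq_true, Bool.and_eq_true, Nat.beq_eq, Nat.blt_eq, Nat.ble_eq, and_assoc] at this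
  exact this

theorem hPLchk : allI (fun t => vbeq (D.L (D.P t).1 (D.P t).2) (vunit 14 t)) 0 14 = true := by decide +kernel

theorem hPL : ∀ t < D.m, vbeq (D.L (D.P t).1 (D.P t).2) (vunit D.m t) = true := fun t ht =>
  of_allI hPLchk t (Nat.zero_le _) ht

theorem hvar : ∀ a < D.k, ∀ i < D.n, Dat.varOK D a i = true := by
  intro a ha i hi
  have ha' : a < 4 := ha
  have hi' : i < 4032 := hi
  interval_cases a
  · exact hV0 i hi'
  · exact hV1 i hi'
  · exact hV2 i hi'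
  · exact hV3 i hi'

theorem hrvchk : allI (fun ρ => Dat.relOK D ρ) 0 43 = true := by decide +kernel

theorem hrv : ∀ ρ < D.r, Dat.relOK D ρ = true := fun ρ hρ => of_allI hrvchk ρ (Nat.zero_le _) hρ

def rels : List (ℕ × ℕ) := [(41, 0), (42, 0), (16, 2309), (6, 137), (30, 4), (2, 750), (36, 2), (0, 833), (41, 0), (0, 783), (13, 23), (33, 23), (33, 41), (2, 3141), (35, 10), (2, 1786), (39, 26), (0, 1521), (0, 1807), (0, 679), (0, 1937), (2, 1892), (16, 1541), (39, 6), (13, 14), (20, 2652), (2, 3131), (2, 2282), (20, 2800), (35, 1235), (28, 534), (9, 3481), (37, 1746), (2, 2294), (15, 389), (39, 309), (36, 1443), (26, 1244)]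

theorem hrelschk : rels.all (fun x => Dat.relClosed D x.1 x.2) = true := by decide +kernel

theorem hrels : ∀ x ∈ rels, Dat.relClosed D x.1 x.2 = true := fun x hx => List.all_eq_true.mp hrelschk x hx

def gv0 : List ℤ := [0, 0, 0, 0, 0, 0, 0, 0, 1, 0, 0, 0, 0, 0]
def wN0 : List ℤ := [2, (-6), 21, (-8), 15, 0, 0, 0, 0, 0, 0, 0, 0, (-2), 0, 0, 3, 0, 12, 0, 0, 0, 8, 0, 0, 0, (-1), (-2), 6, 0, 0, 2, 0, 0, 0, 0, 0, 0]
def gvs : List (List ℤ) := [gv0]
def bL : List (List ℤ) := [[0], [4], [4], [0], [2], [4], [5], [2], [1], [8], [(-3)], [(-2)], [0], [10]]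
def WL : List (List ℤ) := [[(-1), 0, 20, (-17), 7, 0, 0, 0, 0, 0, 0, 0, 0, (-3), 0, 0, 0, 0, 12, 0, 0, 0, 8, 0, 0, 0, 0, 0, 3, 0, 0, 0, 0, 0, 0, 0, 0, 0], [(-4), 4, 84, (-71), 29, 0, 0, 0, 0, 0, 0, 0, 0, (-13), 0, 0, 0, 0, 51, 0, 0, 0, 34, 0, 0, 0, 0, 0, 13, 0, 0, 0, 0, 0, 0, 0, 0, 0], [(-4), 3, 84, (-71), 29, 0, 0, 0, 0, 0, 0, 0, 0, (-13), 0, 0, 0, 0, 51, 0, 0, 0, 34, 0, 0, 0, 0, 0, 13, 0, 0, 0, 0, 0, 0, 0, 0, 0], [2, (-1), (-41), 34, (-14), 0, 0, 0, 0, 0, 0, 0, 0, 6, 0, 0, 0, 0, (-24), 0, 0, 0, (-16), 0, 0, 0, 0, 0, (-6), 0, 0, 0, 0, 0, 0, 0, 0, 0], [(-2), (-1), 23, (-20), 9, 0, 0, 0, 0, 0, 0, 0, 0, (-4), 0, 0, 0, 0, 15, 0, 0, 0, 10, 0, 0, 0, 0, 0, 4, 0, 0, 0, 0, 0, 0, 0, 0, 0], [(-3), 12, 141, (-108), 44, 0, 0, 0, 0, 0, 0, 0, 0, (-19), 0, 0, 1, 0, 79, 0, 0, 0, 55, 0, 0, 0, 0, (-1), 19, (-1), 0, 0, 0, (-1), 0, 0, 0, (-1)], [(-8), 8, 162, (-134), 55, 0, 0, 0, 0, 0, 0, 0, 0, (-24), 0, 0, 0, 0, 96, 0, 0, 0,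 64, 0, 0, 0, 0, 0, 24, 0, 0, 0, 0, 0, 0, 0, 0, 0], [1, 3, (-20), 18, (-7), 0, 0, 0, 0, 0, 0, 0, 0, 3, 0, 0, 0, 0, (-12), 0, 0, 0, (-8), 0, 0, 0, 0, 0, (-3), 0, 0, 0, 0, 0, 0, 0, 0, 0], [0, 0, 0, 0, 0, 0, 0, 0, 0, 0, 0, 0, 0, 0, 0, 0, 0, 0, 0, 0, 0, 0, 0, 0, 0, 0, 0, 0, 0, 0, 0, 0, 0, 0, 0, 0, 0, 0], [(-7), 25, 304, (-265), 100, 0, 0, 0, 0, 0, 0, 0, 0, (-51), 0, 0, (-6), 0, 182, 0, 0, 0, 114, 0, 0, 0, 0, 0, 51, 0, 0, 0, 1, 1, 0, 0, 0, 6], [6, (-12), (-179), 150, (-59), 0, 0, 0, 0, 0, 0, 0, 0, 27, 0, 0, 1, 0, (-105), 0, 0, 0, (-69), 0, 0, 0, 0, 0, (-27), 0, 0, 0, 0, 0, 0, 0, 0, (-1)], [1, (-2), (-12), 10, (-4), 0, 0, 0, 0, 0, 0, 0, 0, 2, 0, 0, 0, 0, (-8), 0, 0, 0, (-5), 0, 0, 0, 0, 0, (-2), 0, 0, 0, 0, 0, 0, 0, 0, 0], [(-2), (-11), 18, (-30), 10, 0, 0, 0, 0, 0, 0, 0, 0, (-8), 0, 0, (-2), 0, 20, 0, 0, 0, 10, 0, 0, 0, 0, 0, 8, 1, 0, 0, 0, 0, 0, 0, 0, 2], [(-7), 25, 329, (-287), 108, 0, 0, 0, 0, 0, 0, 0, 0, (-55),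 0, 0, (-4), 0, 200, 0, 0, 0, 128, 0, 0, 0, 0, 0, 55, 0, 0, 0, 1, 0, 0, 0, 0, 4]]

theorem hfinchk : allI (fun u => vbeq (vunit 14 u) (vadd (lin (bL.getD u []) gvs)
    (lin (WL.getD u []) (rels.map fun x => Dat.relRow D x.1 x.2)))) 0 14 = true := by decide +kernel

theorem hfin : ∀ u < D.m, vbeq (vunit D.m u) (vadd (lin (bL.getD u []) gvs)
    (lin (WL.getD u []) (rels.map fun x => Dat.relRow D x.1 x.2))) = true := fun u hu =>
  of_allI hfinchk u (Nat.zero_le _) hu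

theorem hN0 : vbeq (vscale ((2 : ℕ) : ℤ) gv0) (lin wN0 (rels.map fun x => Dat.relRow D x.1 x.2)) = true := by decide +kernel

/-- The labels. -/
def lab (a i : ℕ) : ZMod 2 := ((lN0 a i : ℕ) : ZMod 2)

/-- The values of the relators. -/
def vv (ρ : ℕ) : ZMod 2 := ((nth vvL0 ρ : ℕ) : ZMod 2)

theorem hRL : ∀ ρ < D.r, ∀ i < D.n, walk D.T (D.R ρ) i = i ∧ Dat.pathSum lab D.T (D.R ρ) i = vv ρ := by
  intro ρ hρ i hi
  have hρ' : ρ < 43 := hρ
  have hi' : i < 4032 := hi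
  interval_cases ρ
  · exact (of_lowOK (hL0c0 i hi'))
  · exact (of_lowOK (hL1c0 i hi'))
  · exact (of_lowOK (hL2c0 i hi'))
  · exact (of_lowOK (hL3c0 i hi'))
  · exact (of_lowOK (hL4c0 i hi'))
  · exact (of_lowOK (hL5c0 i hi'))
  · exact (of_lowOK (hL6c0 i hi'))
  · exact (of_lowOK (hL7c0 i hi'))
  · exact (of_lowOK (hL8c0 i hi'))
  · exact (of_lowOK (hL9c0 i hi'))
  · exact (of_lowOK (hL10c0 i hi'))
  · exact (of_lowOK (hL11c0 i hi'))
  · exact (of_lowOK (hL12c0 i hi'))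
  · exact (of_lowOK (hL13c0 i hi'))
  · exact (of_lowOK (hL14c0 i hi'))
  · exact (of_lowOK (hL15c0 i hi'))
  · exact (of_lowOK (hL16c0 i hi'))
  · exact (of_lowOK (hL17c0 i hi'))
  · exact (of_lowOK (hL18c0 i hi'))
  · exact (of_lowOK (hL19c0 i hi'))
  · exact (of_lowOK (hL20c0 i hi'))
  · exact (of_lowOK (hL21c0 i hi'))
  · exact (of_lowOK (hL22c0 i hi'))
  · exact (of_lowOK (hL23c0 i hi'))
  · exact (of_lowOK (hL24c0 i hi'))
  · exact (of_lowOK (hL25c0 i hi'))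
  · exact (of_lowOK (hL26c0 i hi'))
  · exact (of_lowOK (hL27c0 i hi'))
  · exact (of_lowOK (hL28c0 i hi'))
  · exact (of_lowOK (hL29c0 i hi'))
  · exact (of_lowOK (hL30c0 i hi'))
  · exact (of_lowOK (hL31c0 i hi'))
  · exact (of_lowOK (hL32c0 i hi'))
  · exact (of_lowOK (hL33c0 i hi'))
  · exact (of_lowOK (hL34c0 i hi'))
  · exact (of_lowOK (hL35c0 i hi'))
  · exact (of_lowOK (hL36c0 i hi'))
  · exact (of_lowOK (hL37c0 i hi'))
  · exact (of_lowOK (hL38c0 i hi'))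
  · exact (of_lowOK (hL39c0 i hi'))
  · exact (of_lowOK (hL40c0 i hi'))
  · exact (of_lowOK (hL41c0 i hi'))
  · exact (of_lowOK (hL42c0 i hi'))

theorem hinv : ∀ a < 2 * 2, ∀ i < D.n, D.T (invL 2 a) (D.T a i) = i ∧
    lab (invL 2 a) (D.T a i) + lab a i = 0 := by
  apply hinv_of_rel'
  intro a ha i hi
  have ha' : a < 4 := ha
  interval_cases a
  · exact (of_lowOK0 (hL0c0 i hi))
  · exact (of_lowOK0 (hL2c0 i hi))
  · exact (of_lowOK0 (hL1c0 i hi))
  · exact (of_lowOK0 (hL3c0 i hi))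

theorem hgz : ∀ a < 2, ∀ i < D.n, walk D.T (gw a) i = D.T a i ∧
    Dat.pathSum lab D.T (gw a) i = lab a i := by
  intro a ha
  have hwalk : ∀ i < D.n, walk D.T (gw a) i < D.n := fun i hi =>
    walk_lt (k := D.k) hT (hgw1 a ha) hi
  have ha2 : a + 2 < 2 * 2 := by omega
  have ha3 : a < 2 * 2 := by omega
  have e1 : invL 2 a = a + 2 := by unfold invL; rw [if_pos ha]
  have e2 : invL 2 (a + 2) = a := by unfold invL; rw [if_neg (by omega)]; omega
  have h1 := hinv a ha3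
  have h2 := hinv (a + 2) ha2
  rw [e1] at h1
  rw [e2] at h2
  refine hgz_of_rel' (s := 2) hwalk h2 h1 ?_
  intro i hi
  interval_cases a
  · exact (of_lowOK0 (hL41c0 i hi))
  · exact (of_lowOK0 (hL42c0 i hi))

theorem hvals : AddSubgroup.closure (vv '' {ρ | ρ < D.r}) = ⊤ := by
  have hm : ∀ ρ < 43, vv ρ ∈ AddSubgroup.closure (vv '' {ρ | ρ < D.r}) :=
    fun ρ h => AddSubgroup.subset_closure ⟨ρ, h, rfl⟩
  apply closure_top_one
  · rw [show (1 : ZMod 2) = vv 19 by decide +kernel]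
    exact (hm 19 (by norm_num))

def pcV0 : List ℕ := [0, 0, 0, 0, 0, 0, 1, 0, 1, 0, 1, 0, 0, 0]
def pv (u : ℕ) : ZMod 2 := ((nth pcV0 u : ℕ) : ZMod 2)

def hw (b : ℕ) : List ℕ := hwL.getD b []

def qe (u : ℕ) : List ℕ := qeL.getD u []

theorem hwl : ∀ b < 2 * 2, ∀ a ∈ hw b, a < 2 * 2 := by decide +kernel

theorem hwi : ∀ b < 2, hw (b + 2) = invW 2 (hw b) := by decide +kernel

theorem hqe : ∀ u < D.m, (D.P u).1 < D.k → ∀ b ∈ qe u, b < 2 * 2 := by
  intro u hu _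
  exact (by decide +kernel : ∀ u < 14, ∀ b ∈ qe u, b < 2 * 2) u hu

theorem hparW : parH 2 hw D.T D.par D.gn (D.P 0).1 (D.P 0).2 (qe 0) = pw0 ∧ parH 2 hw D.T D.par D.gn (D.P 3).1 (D.P 3).2 (qe 3) = pw3 ∧ parH 2 hw D.T D.par D.gn (D.P 4).1 (D.P 4).2 (qe 4) = pw4 ∧ parH 2 hw D.T D.par D.gn (D.P 5).1 (D.P 5).2 (qe 5) = pw5 ∧ parH 2 hw D.T D.par D.gn (D.P 6).1 (D.P 6).2 (qe 6) = pw6 ∧ parH 2 hw D.T D.par D.gn (D.P 7).1 (D.P 7).2 (qe 7) = pw7 ∧ parH 2 hw D.T D.par D.gn (D.P 8).1 (D.P 8).2 (qe 8) = pw8 ∧ parH 2 hw D.T D.par D.gn (D.P 9).1 (D.P 9).2 (qe 9) = pw9 ∧ parH 2 hw D.T D.par D.gn (D.P 10).1 (D.P 10).2 (qe 10) = pw10 ∧ parH 2 hw D.T D.par D.gn (D.P 11).1 (D.P 11).2 (qe 11) = pw11 ∧ parH 2 hw D.T D.par D.gn (D.P 12).1 (D.P 12).2 (qe 12) = pw12 ∧ parH 2 hw D.T D.par D.gn (D.P 13).1 (D.P 13).2 (qe 13) = pw13 := by decide +kernel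

theorem hPnon : ¬ (D.P 1).1 < D.k ∧ ¬ (D.P 2).1 < D.k := by decide +kernel

theorem hparL : ∀ u < D.m, (D.P u).1 < D.k → ∀ i < D.n,
    walk D.T (parH 2 hw D.T D.par D.gn (D.P u).1 (D.P u).2 (qe u)) i = i ∧
    Dat.pathSum lab D.T
      (parH 2 hw D.T D.par D.gn (D.P u).1 (D.P u).2 (qe u)) i = pv u := by
  intro u hu h i hi
  have hu' : u < 14 := hu
  have hi' : i < 4032 := hi
  interval_cases u
  · rw [hparW.1]
    exact (of_lowOK (hLP0c0 i hi'))
  · exact absurd h hPnon.1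
  · exact absurd h hPnon.2
  · rw [hparW.2.1]
    exact (of_lowOK (hLP3c0 i hi'))
  · rw [hparW.2.2.1]
    exact (of_lowOK (hLP4c0 i hi'))
  · rw [hparW.2.2.2.1]
    exact (of_lowOK (hLP5c0 i hi'))
  · rw [hparW.2.2.2.2.1]
    exact (of_lowOK (hLP6c0 i hi'))
  · rw [hparW.2.2.2.2.2.1]
    exact (of_lowOK (hLP7c0 i hi'))
  · rw [hparW.2.2.2.2.2.2.1]
    exact (of_lowOK (hLP8c0 i hi'))
  · rw [hparW.2.2.2.2.2.2.2.1]
    exact (of_lowOK (hLP9c0 i hi'))
  · rw [hparW.2.2.2.2.2.2.2.2.1]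
    exact (of_lowOK (hLP10c0 i hi'))
  · rw [hparW.2.2.2.2.2.2.2.2.2.1]
    exact (of_lowOK (hLP11c0 i hi'))
  · rw [hparW.2.2.2.2.2.2.2.2.2.2.1]
    exact (of_lowOK (hLP12c0 i hi'))
  · rw [hparW.2.2.2.2.2.2.2.2.2.2.2]
    exact (of_lowOK (hLP13c0 i hi'))

/-- The expansion of the words of the subgroup. -/
theorem hES2 : ∀ w ∈ U34ALab.wordsL, ∃ c : ZMod 2, ∀ i < D.n,
    walk D.T (subW hw w) i = i ∧ Dat.pathSum lab D.T (subW hw w) i = c := by
  intro w hw'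
  simp only [U34ALab.wordsL, List.mem_cons, List.not_mem_nil, or_false] at hw'
  rcases hw' with rfl | rfl | rfl | rfl | rfl | rfl | rfl | rfl | rfl | rfl | rfl | rfl | rfl | rfl | rfl | rfl | rfl | rfl | rfl | rfl | rfl
  · rw [show subW hw U34ALab.wr0 = wES0 by decide +kernel]
    exact ⟨_, fun i hi => (of_lowOK (hES0c0 i hi))⟩
  · rw [show subW hw U34ALab.wr1 = wES1 by decide +kernel]
    exact ⟨_, fun i hi => (of_lowOK (hES1c0 i hi))⟩
  · rw [show subW hw U34ALab.wr2 = wES2 by decide +kernel]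
    exact ⟨_, fun i hi => (of_lowOK (hES2c0 i hi))⟩
  · rw [show subW hw U34ALab.wr3 = wES3 by decide +kernel]
    exact ⟨_, fun i hi => (of_lowOK (hES3c0 i hi))⟩
  · rw [show subW hw U34ALab.wr4 = wES4 by decide +kernel]
    exact ⟨_, fun i hi => (of_lowOK (hES4c0 i hi))⟩
  · rw [show subW hw U34ALab.wr5 = wES5 by decide +kernel]
    exact ⟨_, fun i hi => (of_lowOK (hES5c0 i hi))⟩
  · rw [show subW hw U34ALab.wr6 = wES6 by decide +kernel]
    exact ⟨_, fun i hi => (of_lowOK (hES6c0 i hi))⟩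
  · rw [show subW hw U34ALab.wr7 = wES7 by decide +kernel]
    exact ⟨_, fun i hi => (of_lowOK (hES7c0 i hi))⟩
  · rw [show subW hw U34ALab.wr8 = wES8 by decide +kernel]
    exact ⟨_, fun i hi => (of_lowOK (hES8c0 i hi))⟩
  · rw [show subW hw U34ALab.wr9 = wES9 by decide +kernel]
    exact ⟨_, fun i hi => (of_lowOK (hES9c0 i hi))⟩
  · rw [show subW hw U34ALab.rw0 = wES10 by decide +kernel]
    exact ⟨_, fun i hi => (of_lowOK (hES10c0 i hi))⟩
  · rw [show subW hw U34ALab.rw1 = wES11 by decide +kernel]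
    exact ⟨_, fun i hi => (of_lowOK (hES11c0 i hi))⟩
  · rw [show subW hw U34ALab.rw2 = wES12 by decide +kernel]
    exact ⟨_, fun i hi => (of_lowOK (hES12c0 i hi))⟩
  · rw [show subW hw U34ALab.rw3 = wES13 by decide +kernel]
    exact ⟨_, fun i hi => (of_lowOK (hES13c0 i hi))⟩
  · rw [show subW hw U34ALab.rw4 = wES14 by decide +kernel]
    exact ⟨_, fun i hi => (of_lowOK (hES14c0 i hi))⟩
  · rw [show subW hw U34ALab.rw5 = wES15 by decide +kernel]
    exact ⟨_, fun i hi => (of_lowOK (hES15c0 i hi))⟩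
  · rw [show subW hw U34ALab.pw0 = wES16 by decide +kernel]
    exact ⟨_, fun i hi => (of_lowOK (hES16c0 i hi))⟩
  · rw [show subW hw U34ALab.pw3 = wES17 by decide +kernel]
    exact ⟨_, fun i hi => (of_lowOK (hES17c0 i hi))⟩
  · rw [show subW hw U34ALab.pw4 = wES18 by decide +kernel]
    exact ⟨_, fun i hi => (of_lowOK (hES18c0 i hi))⟩
  · rw [show subW hw U34ALab.pw5 = wES19 by decide +kernel]
    exact ⟨_, fun i hi => (of_lowOK (hES19c0 i hi))⟩
  · rw [show subW hw U34ALab.pw6 = wES20 by decide +kernel]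
    exact ⟨_, fun i hi => (of_lowOK (hES20c0 i hi))⟩

theorem c_rel : allI (fun ρ => chk (Rget ρ)) 0 43 = true := by decide +kernel
theorem c_p0 : chk pw0 = true := by decide +kernel
theorem c_p3 : chk pw3 = true := by decide +kernel
theorem c_p4 : chk pw4 = true := by decide +kernel
theorem c_p5 : chk pw5 = true := by decide +kernel
theorem c_p6 : chk pw6 = true := by decide +kernel
theorem c_p7 : chk pw7 = true := by decide +kernel
theorem c_p8 : chk pw8 = true := by decide +kernel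
theorem c_p9 : chk pw9 = true := by decide +kernel
theorem c_p10 : chk pw10 = true := by decide +kernel
theorem c_p11 : chk pw11 = true := by decide +kernel
theorem c_p12 : chk pw12 = true := by decide +kernel
theorem c_p13 : chk pw13 = true := by decide +kernel
theorem c_HE : ∀ w ∈ U34ALab.wordsL, chk (subW hw w) = true := by decide +kernel
theorem c_HA : ∀ w ∈ U34ALab.wordsL, chk (subW hw w) = true := by decide +kernel
theorem c_HB : ∀ w ∈ U34BLab.wordsL, chk (subW hw w) = true := by decide +kernel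
theorem c_HC : ∀ w ∈ U34CLab.wordsL, chk (subW hw w) = true := by decide +kernel

section main

variable {G : Type u} [Group G] [Finite G] (g : ℕ → G)

/-- The multiplier, from the letters. -/
theorem main (hgi : ∀ a < 2, g (a + 2) = (g a)⁻¹) (hgen : closure (g '' {a | a < 2 * 2}) = ⊤)
    (heq : ∀ w : List ℕ, (∀ a ∈ w, a < 4) → chk w = true → wval g w = 1)
    (hcardG : Nat.card G = 251596800) :
    Cfsg.HasSchurMultiplier G (Multiplicative (ZMod 2)) := by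
  have hcard : Nat.card G = D.n * (U34ALab.D.n * (U34ALab.pcL.map PC.o).prod) := by
    rw [U34ALab.hprod, hcardG]
    decide +kernel
  have hrelG : ∀ ρ < D.r, wval g (D.R ρ) = 1 := by
    intro ρ hρ
    exact heq _ (hR4 ρ hρ) (of_allI c_rel ρ (Nat.zero_le _) hρ)
  have hgw2 : ∀ a < 2, wval g (gw a) = g a := by
    intro a ha
    interval_cases a
    · have h := hrelG 41 (by decide +kernel)
      rw [show D.R 41 = 2 :: gwx from rfl, wval_cons, show g 2 = (g 0)⁻¹ from hgi 0 (by norm_num)] at h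
      exact (inv_mul_eq_one.mp h).symm
    · have h := hrelG 42 (by decide +kernel)
      rw [show D.R 42 = 3 :: gwy from rfl, wval_cons, show g 3 = (g 1)⁻¹ from hgi 1 (by norm_num)] at h
      exact (inv_mul_eq_one.mp h).symm
  have hparG : ∀ u < D.m, (D.P u).1 < D.k →
      wval g (parH 2 hw D.T D.par D.gn (D.P u).1 (D.P u).2 (qe u)) = 1 := by
    intro u hu h
    have hu' : u < 14 := hu
    interval_cases u
    · rw [hparW.1]
      exact heq _ (by decide +kernel) c_p0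
    · exact absurd h hPnon.1
    · exact absurd h hPnon.2
    · rw [hparW.2.1]
      exact heq _ (by decide +kernel) c_p3
    · rw [hparW.2.2.1]
      exact heq _ (by decide +kernel) c_p4
    · rw [hparW.2.2.2.1]
      exact heq _ (by decide +kernel) c_p5
    · rw [hparW.2.2.2.2.1]
      exact heq _ (by decide +kernel) c_p6
    · rw [hparW.2.2.2.2.2.1]
      exact heq _ (by decide +kernel) c_p7
    · rw [hparW.2.2.2.2.2.2.1]
      exact heq _ (by decide +kernel) c_p8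
    · rw [hparW.2.2.2.2.2.2.2.1]
      exact heq _ (by decide +kernel) c_p9
    · rw [hparW.2.2.2.2.2.2.2.2.1]
      exact heq _ (by decide +kernel) c_p10
    · rw [hparW.2.2.2.2.2.2.2.2.2.1]
      exact heq _ (by decide +kernel) c_p11
    · rw [hparW.2.2.2.2.2.2.2.2.2.2.1]
      exact heq _ (by decide +kernel) c_p12
    · rw [hparW.2.2.2.2.2.2.2.2.2.2.2]
      exact heq _ (by decide +kernel) c_p13
  have hsubl : ∀ w : List ℕ, (∀ b ∈ w, b < 2 * 2) → ∀ a ∈ subW hw w, a < 2 * 2 := subW_letters hwl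
  have hsub1 : ∀ w : List ℕ, (∀ b ∈ w, b < 2 * 2) → chk (subW hw w) = true → wval g (subW hw w) = 1 :=
    fun w h1 h2 => heq _ (hsubl w h1) h2
  obtain ⟨hG1, hG2, hG3⟩ := U34ALab.words_of (fun w => wval g (subW hw w) = 1)
    (fun w h => hsub1 w (by revert w; decide +kernel) (c_HE w h))
  obtain ⟨hL1, hL2, hL3⟩ := U34ALab.words_of (fun w => ∃ c : ZMod 2, ∀ i < D.n,
    walk D.T (subW hw w) i = i ∧ Dat.pathSum lab D.T (subW hw w) i = c) hES2
  have hcX := card_T D 2 rfl (by decide +kernel) g hgi hgen hw 2 hwl hwi U34ALab.D rfl U34ALab.pcL U34ALab.hpc U34ALab.hlet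
    U34ALab.hT U34ALab.hR (by decide +kernel) U34ALab.hp (fun u => U34ALab.peL.getD u []) U34ALab.hPn U34ALab.hvar hcard hG1 hG2 hG3
    hT hR hp hrelG hPk hvar qe hqe hparG
  have hcX' : Nat.card (closure ((fun b => wval g (hw b)) '' {b | b < 2 * 2})) = 62400 := by
    rw [hcX, U34ALab.hprod]
    decide +kernel
  have hi : ∀ b < 2, (fun b => wval g (hw b)) (b + 2) = ((fun b => wval g (hw b)) b)⁻¹ := by
    intro b hb
    show wval g (hw (b + 2)) = (wval g (hw b))⁻¹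
    rw [hwi b hb]
    exact wval_invW g 2 hgi _ (hwl b (by omega))
  have hletter : ∀ w : List ℕ, (∀ b ∈ w, b < 2 * 2) → chk (subW hw w) = true →
      wval (subLetters (fun b => wval g (hw b)) (2 * 2)) w = 1 := by
    intro w h1 h2
    apply Subtype.ext
    rw [subLetters_val _ _ w h1, Subgroup.coe_one, ← wval_subW]
    exact hsub1 w h1 h2
  have hfacts := U34Lab.facts (subLetters (fun b => wval g (hw b)) (2 * 2))
    (subLetters_inv _ 2 hi) (subLetters_closure _ (2 * 2))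
    (fun w h => hletter w (by revert w; decide +kernel) (c_HA w h)) (fun w h => hletter w (by revert w; decide +kernel) (c_HB w h)) (fun w h => hletter w (by revert w; decide +kernel) (c_HC w h)) hcX'
  have hSurj : ∀ (Γ : Type u) [Group Γ] [Finite Γ] (σ : Γ →* G), Cfsg.IsStemExtension σ →
      ∀ f : List ℤ → σ.ker, (∀ x : σ.ker, x ∈ closure (f '' {v | v ∈ gvs})) →
      (∀ (v : List ℤ) (N : ℤ) (w : List ℤ),
        vbeq (vscale N v) (lin w (rels.map fun x => Dat.relRow D x.1 x.2)) = true → f v ^ N = 1) →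
      ∃ π : Multiplicative (ZMod 2) →* σ.ker, Function.Surjective π := by
    intro Γ _ _ σ hσ f hf1 hf2
    have e0 : f gv0 ^ 2 = 1 := by
      have := hf2 gv0 ((2 : ℕ) : ℤ) wN0 hN0
      rwa [zpow_natCast] at this
    have hgen' : ∀ x : σ.ker, x ∈ closure ({f gv0} : Set σ.ker) := by
      intro x
      refine (show closure (f '' {v | v ∈ gvs}) ≤ _ from ?_) (hf1 x)
      rw [closure_le]
      rintro _ ⟨v, hv, rfl⟩
      simp only [Set.mem_ofPred_eq, gvs, List.mem_cons, List.not_mem_nil, or_false] at hv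
      rcases hv with rfl
      · exact subset_closure (by simp)
    exact surj_one 2 _ e0 hgen'
  exact final_T D 2 rfl (by decide +kernel) g hgi hgen hw 2 hwl hwi U34ALab.D rfl U34ALab.pcL U34ALab.hpc U34ALab.hlet
    U34ALab.hT U34ALab.hR (by decide +kernel) U34ALab.hp (fun u => U34ALab.peL.getD u []) U34ALab.hPn U34ALab.hvar hcard hG1 hG2 hG3
    gw hgw1 hgw2 hgw3 hT hR hp hrelG hZ hPk hPL hvar hrv rels hrels gvs (fun u => bL.getD u []) (fun u => WL.getD u [])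
    hfin hfacts.1 hfacts.2 hSurj lab hinv vv hRL hvals hgz hL1 hL2 hL3 qe pv hqe hparG hparL

end main

end Cfsg.Agent.Lib.KnownSimple.G24Lab
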